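import Cfsg.Agent.Lib.Fusion.OmegaSeven.Closed

/-!
The normaliser of `2⁶ : D₈` in `Ω₇(q)`.
-/

set_option autoImplicit false

open Equiv CfsgLib.Classical

namespace CfsgLib.Fusion.OmegaSeven

variable {F : Type*} [Field F]

theorem card_fixed_le {P : Finset (Perm (Fin 7))} (h1 : ∀ p ∈ P, p ∈ dList)
    (hc : ∀ p ∈ P, ∀ q ∈ P, p * q = q * p) (hs : ∀ p ∈ P, p * p = 1)
    {p₀ : Perm (Fin 7)} (hp₀ : p₀ ∈ P) (hp₀1 : p₀ ≠ 1) :
    P.card * (Finset.univ.filter fun ε : Sgns =>
      ∏ i, ε i = 1 ∧ ∀ p ∈ P, ∀ i, ε (p i) = ε i).card < 64 := by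
  classical
  set Φ := Finset.univ.filter fun ε : Sgns => ∏ i, ε i = 1 ∧ ∀ p ∈ P, ∀ i, ε (p i) = ε i with hΦ
  have h16 : Φ.card ≤ 16 := by
    refine le_trans (Finset.card_le_card fun ε hε => ?_) (fixed_one p₀ (h1 _ hp₀) hp₀1)
    simp only [hΦ, Finset.mem_filter, Finset.mem_univ, true_and] at hε ⊢
    exact ⟨hε.1, hε.2 _ hp₀⟩
  by_cases hq : ∃ q ∈ P, q ≠ 1 ∧ q ≠ p₀
  · obtain ⟨q, hqP, hq1, hqp⟩ := hq
    have h8 : Φ.card ≤ 8 := by
      refine le_trans (Finset.card_le_card fun ε hε => ?_)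
        (fixed_two p₀ (h1 _ hp₀) q (h1 _ hqP) hp₀1 hq1 hqp.symm (hs _ hp₀) (hs _ hqP)
          (hc _ hp₀ _ hqP))
      simp only [hΦ, Finset.mem_filter, Finset.mem_univ, true_and] at hε ⊢
      exact ⟨hε.1, hε.2 _ hp₀, hε.2 _ hqP⟩
    have h4 : P.card ≤ 4 := by
      refine le_trans (Finset.card_le_card (t := {1, p₀, q, p₀ * q}) fun r hr => ?_)
        Finset.card_le_four
      rcases commuting_three p₀ (h1 _ hp₀) q (h1 _ hqP) r (h1 _ hr) hp₀1 hq1 hqp.symm (hs _ hp₀)
        (hs _ hqP) (hs _ hr) (hc _ hp₀ _ hqP) (hc _ hp₀ _ hr) (hc _ hqP _ hr) with h | h | h | h <;>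
        simp [h]
    exact lt_of_le_of_lt (Nat.mul_le_mul h4 h8) (by norm_num)
  · push Not at hq
    have h2 : P.card ≤ 2 := by
      refine le_trans (Finset.card_le_card (t := {1, p₀}) fun r hr => ?_) Finset.card_le_two
      by_cases hr1 : r = 1
      · simp [hr1]
      · simp [hq r hr hr1]
    exact lt_of_le_of_lt (Nat.mul_le_mul h2 h16) (by norm_num)

/-- The diagonal part is the only commutative subgroup of exponent two and order `64`. -/
theorem eq_diag (h2 : (2 : F) ≠ 0) (B : Subgroup (qAut (sq7 F))) (hB : B ≤ syl F)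
    (hc : ∀ x ∈ B, ∀ y ∈ B, x * y = y * x) (hs : ∀ x ∈ B, x * x = 1) (hcard : Nat.card B = 64) :
    B = (evenSgns.map sgn) := by
  classical
  have hBel : ∀ x : B, ∃ e : Sgns × Perm (Fin 7),
      e.1 ∈ evenSgns ∧ e.2 ∈ dList ∧ (x : qAut (sq7 F)) = sgn e.1 * prm e.2 := fun x => by
    obtain ⟨ε, π, h1, h3, h4⟩ := hB x.2
    exact ⟨(ε, π), h1, h3, h4⟩
  choose e he1 he2 he3 using hBel
  haveI : Finite B := Nat.finite_of_card_ne_zero (by omega)
  haveI := Fintype.ofFinite B
  have hmulπ : ∀ x y : B, (e x).2 * (e y).2 = (e (x * y)).2 := fun x y => by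
    have h := he3 (x * y)
    rw [Subgroup.coe_mul, he3 x, he3 y, mul_pair] at h
    exact (pair_inj h2 h).2
  have hone : (e 1).2 = 1 := by
    have h := hmulπ 1 1
    rw [one_mul] at h
    exact mul_eq_left.1 h
  set P : Finset (Perm (Fin 7)) := Finset.univ.image fun x : B => (e x).2 with hP
  by_cases hall : ∀ x : B, (e x).2 = 1
  · haveI : Finite ↥(evenSgns.map (sgn : Sgns →* qAut (sq7 F))) :=
      Finite.of_surjective ((sgn : Sgns →* qAut (sq7 F)).subgroupMap evenSgns) (MonoidHom.subgroupMap_surjective _ _)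
    refine Subgroup.eq_of_le_of_card_ge (fun x hx => ?_) ?_
    · exact ⟨(e ⟨x, hx⟩).1, he1 _, by rw [← mul_one (sgn _), ← map_one prm, ← hall ⟨x, hx⟩]; exact (he3 ⟨x, hx⟩).symm⟩
    · rw [hcard, ← card_evenSgns]
      exact Nat.le_of_dvd (card_evenSgns.symm ▸ by norm_num)
        (Subgroup.card_map_dvd evenSgns (sgn : Sgns →* qAut (sq7 F)))
  · exfalso
    push Not at hall
    obtain ⟨x₀, hx₀⟩ := hall
    have hpP : ∀ p ∈ P, ∃ x : B, (e x).2 = p := fun p hp => by
      simpa [hP] using hp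
    have hlt := card_fixed_le (P := P)
      (fun p hp => by obtain ⟨x, rfl⟩ := hpP p hp; exact he2 x)
      (fun p hp q hq => by
        obtain ⟨x, rfl⟩ := hpP p hp
        obtain ⟨y, rfl⟩ := hpP q hq
        rw [hmulπ, hmulπ, show x * y = y * x from Subtype.ext (hc _ x.2 _ y.2)])
      (fun p hp => by
        obtain ⟨x, rfl⟩ := hpP p hp
        rw [hmulπ, show x * x = 1 from Subtype.ext (hs _ x.2), hone])
      (p₀ := (e x₀).2) (by simp [hP]) hx₀
    set Φ := Finset.univ.filter fun ε : Sgns => ∏ i, ε i = 1 ∧ ∀ p ∈ P, ∀ i, ε (p i) = ε i with hΦ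
    -- a representative in each fibre
    let rep : Perm (Fin 7) → B := fun p => if h : ∃ x, (e x).2 = p then h.choose else 1
    have hrep : ∀ x : B, (e (rep (e x).2)).2 = (e x).2 := fun x => by
      have h : ∃ y, (e y).2 = (e x).2 := ⟨x, rfl⟩
      simp only [rep, dif_pos h]
      exact h.choose_spec
    have hker : ∀ z : B, (e z).2 = 1 → (e z).1 ∈ Φ := by
      intro z hz
      simp only [hΦ, Finset.mem_filter, Finset.mem_univ, true_and]
      refine ⟨he1 z, fun p hp i => ?_⟩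
      obtain ⟨x, rfl⟩ := hpP p hp
      have h := hc _ x.2 _ z.2
      rw [he3 x, he3 z, mul_pair, mul_pair] at h
      have h' := (pair_inj h2 h).1
      have hid : (e z).1 * ((e x).1 ∘ ⇑((e z).2)⁻¹) = (e x).1 * (e z).1 := by
        rw [hz]; funext j; simp [mul_comm]
      rw [hid] at h'
      have := congrFun (mul_left_cancel h') ((e x).2 i)
      simpa using this.symm
    have hinj : Function.Injective fun x : B => ((e x).2, (e ((rep (e x).2)⁻¹ * x)).1) := by
      intro x y hxy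
      simp only [Prod.mk.injEq] at hxy
      obtain ⟨hp, hk⟩ := hxy
      have hk1 : ∀ x : B, (e ((rep (e x).2)⁻¹ * x)).2 = 1 := fun x => by
        have h := hmulπ (rep (e x).2) ((rep (e x).2)⁻¹ * x)
        rw [mul_inv_cancel_left, hrep] at h
        exact mul_eq_left.1 h
      have h : (rep (e x).2)⁻¹ * x = (rep (e y).2)⁻¹ * y :=
        Subtype.ext (by rw [he3, he3 ((rep (e y).2)⁻¹ * y), hk, hk1, hk1])
      rw [hp] at h
      exact mul_left_cancel h
    have hle : Fintype.card B ≤ (P ×ˢ Φ).card := by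
      rw [← Finset.card_univ]
      refine Finset.card_le_card_of_injOn _ (fun x _ => ?_) hinj.injOn
      refine Finset.mem_product.2 ⟨by simp [hP], hker _ ?_⟩
      have h := hmulπ (rep (e x).2) ((rep (e x).2)⁻¹ * x)
      rw [mul_inv_cancel_left, hrep] at h
      exact mul_eq_left.1 h
    rw [Finset.card_product, ← Nat.card_eq_fintype_card, hcard] at hle
    omega

/-- An element normalising the diagonal group is monomial. -/
theorem monomial_of_normalizes (h2 : (2 : F) ≠ 0) (g : qAut (sq7 F))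
    (hg : ∀ ε ∈ evenSgns, ∃ η ∈ evenSgns, g⁻¹ * sgn ε * g = sgn η) :
    ∃ (c : Sgns) (σ : Perm (Fin 7)), g = sgn c * prm σ := by
  classical
  have hcol : ∀ i, ∃ (j : Fin 7) (u : ℤˣ), g.1 (Pi.single i 1) = Pi.single j ((u : ℤ) : F) := by
    intro i
    set v := g.1 (Pi.single i 1) with hv
    have heig : ∀ ε ∈ evenSgns, ∃ u : ℤˣ, ∀ j, ((ε j : ℤ) : F) * v j = ((u : ℤ) : F) * v j := by
      intro ε hε
      obtain ⟨η, -, he⟩ := hg ε hε
      have h : sgn ε * g = g * sgn η := by rw [← he]; group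
      have h' : (sgn ε : qAut (sq7 F)).1 v = g.1 ((sgn η : qAut (sq7 F)).1 (Pi.single i 1)) :=
        congrArg (fun k : qAut (sq7 F) => k.1 (Pi.single i 1)) h
      have hs : (sgn η : qAut (sq7 F)).1 (Pi.single i 1) =
          ((η i : ℤ) : F) • (Pi.single i 1 : Fin 7 → F) := by
        funext j
        rw [sgn_apply]
        by_cases hj : j = i
        · subst hj; simp
        · simp [hj]
      rw [hs, map_smul] at h'
      exact ⟨η i, fun j => congrFun h' j⟩
    have hQ : ∑ j, v j * v j = 1 := by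
      rw [← sq7_apply, hv, qAut_map, sq7_apply]
      simp [Pi.single_apply]
    obtain ⟨j, hj⟩ : ∃ j, v j ≠ 0 := by
      by_contra h
      push Not at h
      simp [h] at hQ
    have huniq : ∀ k, k ≠ j → v k = 0 := by
      intro k hk
      obtain ⟨l, hlj, hlk, -⟩ := exists_fourth j k k
      obtain ⟨u, hu⟩ := heig (pr j l) (pr_mem j l)
      have hj' := mul_right_cancel₀ hj (hu j)
      by_contra hvk
      have hk' := mul_right_cancel₀ hvk (hu k)
      rw [← hk', pr_apply hlj.symm, pr_apply hlj.symm, if_pos (Or.inl rfl),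
        if_neg (by simp [hk, Ne.symm hlk])] at hj'
      simp only [Units.val_neg, Units.val_one, Int.cast_neg, Int.cast_one] at hj'
      exact h2 (by linear_combination -hj')
    rw [Finset.sum_eq_single j (fun k _ hk => by simp [huniq k hk]) (by simp)] at hQ
    rcases mul_self_eq_one_iff.1 hQ with h | h
    · exact ⟨j, 1, funext fun k => by
        by_cases hk : k = j
        · subst hk; simp [h]
        · simp [hk, huniq k hk]⟩
    · exact ⟨j, -1, funext fun k => by
        by_cases hk : k = j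
        · subst hk; simp [h]
        · simp [hk, huniq k hk]⟩
  choose σ₀ u hu using hcol
  have hσ : Function.Injective σ₀ := by
    intro i j hij
    by_contra hne
    have h : g.1 (Pi.single i 1) = g.1 (((u i * u j : ℤˣ) : ℤ) • (Pi.single j 1 : Fin 7 → F)) := by
      rw [map_zsmul, hu i, hu j, hij]
      funext k
      by_cases hk : k = σ₀ j
      · subst hk
        simp only [Pi.single_eq_same, Pi.smul_apply, zsmul_eq_mul, Units.val_mul, Int.cast_mul]
        rw [mul_assoc, unit_sq_cast, mul_one]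
      · simp [hk]
    have := congrFun (g.1.injective h) i
    simp [hne, Ne.symm hne] at this
  let σ : Perm (Fin 7) := Equiv.ofBijective σ₀ (Finite.injective_iff_bijective.1 hσ)
  refine ⟨fun j => u (σ.symm j), σ, qAut_ext fun x => ?_⟩
  have hx : ∀ i, g.1 (Pi.single i (x i)) =
      (sgn (fun j => u (σ.symm j)) * prm σ : qAut (sq7 F)).1 (Pi.single i (x i)) := fun i => by
    rw [show (Pi.single i (x i) : Fin 7 → F) = x i • Pi.single i 1 by simp [← Pi.single_smul],
      map_smul, map_smul, hu i, pair_single]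
    simp only [Equiv.symm_apply_apply]
    rfl
  conv_lhs => rw [← Finset.univ_sum_single x]
  conv_rhs => rw [← Finset.univ_sum_single x]
  rw [map_sum, map_sum]
  exact Finset.sum_congr rfl fun i _ => hx i

/-- An element of the commutator subgroup normalising `syl` has two-power order. -/
theorem pow_eq_one_of_normalizes [Finite F] (h2 : (2 : F) ≠ 0) (g : qAut (sq7 F))
    (hg : ∀ x, x ∈ syl F ↔ g * x * g⁻¹ ∈ syl F) : g ^ 16 = 1 := by
  classical
  haveI := finite_qAut (sq7 F)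
  -- the diagonal group is preserved
  set A : Subgroup (qAut (sq7 F)) := evenSgns.map sgn with hA
  have hAB : A.map (MulAut.conj g⁻¹).toMonoidHom = A := by
    refine eq_diag h2 _ ?_ ?_ ?_ ?_
    · rintro _ ⟨_, ⟨ε, hε, rfl⟩, rfl⟩
      show g⁻¹ * sgn ε * g⁻¹⁻¹ ∈ syl F
      rw [hg, inv_inv]
      have : g * (g⁻¹ * sgn ε * g) * g⁻¹ = sgn ε := by group
      rw [this]
      exact sgn_mem_syl hε
    · rintro _ ⟨_, ⟨ε, -, rfl⟩, rfl⟩ _ ⟨_, ⟨η, -, rfl⟩, rfl⟩
      rw [← map_mul, ← map_mul, ← map_mul, ← map_mul, mul_comm]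
    · rintro _ ⟨_, ⟨ε, -, rfl⟩, rfl⟩
      rw [← map_mul, ← map_mul, show ε * ε = 1 from funext fun _ => Int.units_mul_self _, map_one,
        map_one]
    · rw [← Nat.card_congr (Subgroup.equivMapOfInjective A _
        (MulAut.conj g⁻¹).injective).toEquiv, hA, ← Nat.card_congr
        (Subgroup.equivMapOfInjective evenSgns _ (fun ε η h => (pair_inj h2
          (π := 1) (τ := 1) (by rw [map_one, mul_one, mul_one]; exact h)).1)).toEquiv, card_evenSgns]
  obtain ⟨c, σ, rfl⟩ := monomial_of_normalizes h2 g fun ε hε => by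
    have h : (MulAut.conj g⁻¹).toMonoidHom (sgn ε) ∈ A.map (MulAut.conj g⁻¹).toMonoidHom :=
      Subgroup.mem_map_of_mem _ ⟨ε, hε, rfl⟩
    rw [hAB] at h
    obtain ⟨η, hη, he⟩ := h
    refine ⟨η, hη, ?_⟩
    rw [he]
    show g⁻¹ * sgn ε * g = g⁻¹ * sgn ε * g⁻¹⁻¹
    rw [inv_inv]
  have key : ∀ π ∈ dList, σ * π * σ⁻¹ ∈ dList := by
    intro π hπ
    obtain ⟨ε, τ, -, hτ, he⟩ := (hg _).1 (prm_mem_syl hπ)
    rw [← one_mul (prm π), ← map_one sgn, mul_inv_eq_iff_eq_mul, mul_pair, mul_pair] at he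
    rw [(pair_inj h2 he).2, mul_inv_cancel_right]
    exact hτ
  have hσ8 := pow_eight_of_normalizes σ (key _ (by simp [dList])) (key _ (by simp [dList]))
  obtain ⟨η, hη⟩ := pow_pair (F := F) c σ 8
  rw [show (16 : ℕ) = 8 * 2 from rfl, pow_mul, hη, hσ8, map_one, mul_one, ← map_pow,
    show η ^ 2 = 1 from funext fun _ => Int.units_sq _, map_one]

end CfsgLib.Fusion.OmegaSeven
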