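import Cfsg.Agent.Lib.Fusion.OmegaSeven.Criterion
import Cfsg.Agent.Lib.Fusion.OmegaSeven.Norm
import Cfsg.Agent.Lib.Classical.SylowTwo.Main

/-!
Every Sylow 2-subgroup of `Ω₇(q)`, `q ≡ ±3 (mod 8)`, is rigid.
-/

set_option autoImplicit false

open CfsgLib.Classical CfsgLib.Classical.SylowTwo

namespace CfsgLib.Fusion.OmegaSeven

variable {F : Type*} [Field F] [Fintype F]

theorem two_ne_zero_of_card {q : ℕ} (hF : Fintype.card F = q) (hq : q % 8 = 3 ∨ q % 8 = 5) :
    (2 : F) ≠ 0 := by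
  intro h
  haveI : CharP F 2 := CharTwo.of_one_ne_zero_of_two_eq_zero one_ne_zero h
  have := FiniteField.even_card_of_char_two (F := F) (ringChar.eq F 2)
  omega

/-- The isometry group of the odd form is that of the sum of seven squares. -/
theorem exists_iso (h2 : (2 : F) ≠ 0) :
    Nonempty (qAut (sq7 F) ≃* Cfsg.isometryGroup F (Cfsg.quadFormOdd 3 F)) := by
  classical
  rw [← coe_qOdd]
  obtain ⟨t, ht, hC⟩ := CfsgLib.Forms.formEquiv_of_odd h2 (polarGram_transpose (qOdd 3 F))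
    (B := Matrix.diagonal fun _ : Fin 7 => (2 : F)) (Matrix.diagonal_transpose _)
    (Fintype.equivOfCardEq (by simp [OddI])) (det_polarGram_ne _ (polarNondeg_qOdd h2 3))
    (by rw [Matrix.det_diagonal]; simp [h2]) ⟨3, by simp [OddI]⟩
  obtain ⟨x, y, hxy, hyx, hB⟩ := hC
  let e : (Fin 7 → F) ≃ₗ[F] (OddI 3 → F) :=
    LinearEquiv.ofLinearMap (Matrix.mulVecLin x) (Matrix.mulVecLin y)
      (by rw [← Matrix.mulVecLin_mul, hxy, Matrix.mulVecLin_one])
      (by rw [← Matrix.mulVecLin_mul, hyx, Matrix.mulVecLin_one])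
  refine ⟨(qAutSimilar e ht fun v => mul_left_cancel₀ h2 ?_).trans (isoEquiv (qOdd 3 F)).symm⟩
  show 2 * qOdd 3 F (Matrix.mulVec x v) = _
  have hh : dotProduct (Matrix.mulVec x v) (Matrix.mulVec (polarGram (qOdd 3 F)) (Matrix.mulVec x v))
      = dotProduct v (Matrix.mulVec (x.transpose * polarGram (qOdd 3 F) * x) v) := by
    rw [← Matrix.mulVec_mulVec, ← Matrix.mulVec_mulVec, Matrix.dotProduct_mulVec v,
      Matrix.vecMul_transpose]
  rw [← quad_polar_self, polarGram_form, hh, hB, Matrix.smul_mulVec, dotProduct_smul, smul_eq_mul,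
    sq7_apply]
  simp only [dotProduct, Matrix.mulVec_diagonal, Finset.mul_sum]
  exact Finset.sum_congr rfl fun i _ => by ring

theorem factorization_card {q : ℕ} (hF : Fintype.card F = q) (hq : q % 8 = 3 ∨ q % 8 = 5) :
    (Nat.card (commutator (qAut (sq7 F)))).factorization 2 = 9 := by
  have h2 := two_ne_zero_of_card hF hq
  haveI := finite_qAut (sq7 F)
  haveI := finite_qAut (qOdd 3 F)
  obtain ⟨e⟩ := exists_iso (F := F) h2
  let e' : qAut (sq7 F) ≃* qAut (qOdd 3 F) :=
    (e.trans (MulEquiv.subgroupCongr (by rw [coe_qOdd]))).trans (isoEquiv (qOdd 3 F))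
  have hidx : (commutator (qAut (sq7 F))).index = 4 := by
    rw [index_commutator_congr e']
    exact index_commutator_odd _ h2 (polarNondeg_qOdd h2 3) (by simp [OddI])
  have hne : ∀ i, Fintype.card F ^ (2 * (i + 1)) - 1 ≠ 0 := fun i =>
    (Nat.sub_pos_of_lt (Nat.one_lt_pow (by omega) Fintype.one_lt_card)).ne'
  have hpad : padicValNat 2 (Fintype.card F * Fintype.card F - 1) = 3 := by
    rw [hF]
    haveI : Fact (Nat.Prime 2) := ⟨Nat.prime_two⟩
    obtain ⟨k, hk⟩ : ∃ k, q * q - 1 = 2 ^ 3 * (2 * k + 1) := by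
      rcases hq with h | h
      · obtain ⟨m, rfl⟩ : ∃ m, q = 8 * m + 3 := ⟨q / 8, by omega⟩
        refine ⟨4 * m * m + 3 * m, ?_⟩
        have : (8 * m + 3) * (8 * m + 3) = 2 ^ 3 * (2 * (4 * m * m + 3 * m) + 1) + 1 := by ring
        omega
      · obtain ⟨m, rfl⟩ : ∃ m, q = 8 * m + 5 := ⟨q / 8, by omega⟩
        refine ⟨4 * m * m + 5 * m + 1, ?_⟩
        have : (8 * m + 5) * (8 * m + 5) = 2 ^ 3 * (2 * (4 * m * m + 5 * m + 1) + 1) + 1 := by ring
        omega
    rw [hk, padicValNat.mul (by norm_num) (by omega), padicValNat.prime_pow,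
      padicValNat.eq_zero_of_not_dvd (by omega)]
  have hv : (Nat.card (qAut (qOdd 3 F))).factorization 2 = 11 := by
    rw [card_qAut_qOdd, card_qAut_line h2, ← mul_one (2 * Fintype.card F ^ 3 ^ 2),
      v_factor _ one_ne_zero (Finset.prod_ne_zero_iff.mpr fun i _ => hne i)
        (by have := Nat.odd_iff.1 (odd_card_of_two_ne_zero h2); omega), v_prod h2, hpad]
    have h6 : (Nat.factorial 3).factorization 2 = 1 := by
      rw [show Nat.factorial 3 = 2 * 3 from rfl, Nat.factorization_mul (by norm_num) (by norm_num),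
        Finsupp.add_apply, Nat.prime_two.factorization_self,
        Nat.factorization_eq_zero_of_not_dvd (by norm_num)]
    rw [h6, Nat.factorization_one, Finsupp.zero_apply]
    norm_num
  have hmul := Subgroup.card_mul_index (commutator (qAut (sq7 F)))
  rw [hidx, Nat.card_congr e'.toEquiv] at hmul
  rw [← hmul, Nat.factorization_mul Nat.card_pos.ne' (by norm_num), Finsupp.add_apply] at hv
  have h4 : (4 : ℕ).factorization 2 = 2 := by
    rw [show (4 : ℕ) = 2 ^ 2 from rfl, Nat.prime_two.factorization_pow, Finsupp.single_eq_same]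
  omega

theorem exists_rigid_sylow {q : ℕ} (hF : Fintype.card F = q) (hq : q % 8 = 3 ∨ q % 8 = 5) :
    ∃ P : Sylow 2 (commutator (qAut (sq7 F))), Rigid (P : Subgroup (commutator (qAut (sq7 F)))) ∧
      (P : Subgroup (commutator (qAut (sq7 F)))) ≠ ⊥ := by
  classical
  have h2 := two_ne_zero_of_card hF hq
  haveI := finite_qAut (sq7 F)
  haveI : Fact (Nat.Prime 2) := ⟨Nat.prime_two⟩
  set K := (syl F).subgroupOf (commutator (qAut (sq7 F))) with hK
  have hcardK : Nat.card K = 2 ^ 9 := by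
    rw [Nat.card_congr (Subgroup.subgroupOfEquivOfLe syl_le_commutator).toEquiv, card_syl h2]
  let P : Sylow 2 (commutator (qAut (sq7 F))) :=
    Sylow.ofCard K (by rw [hcardK, factorization_card hF hq])
  have hP : (P : Subgroup (commutator (qAut (sq7 F)))) = K := rfl
  have hne : (P : Subgroup (commutator (qAut (sq7 F)))) ≠ ⊥ := by
    rw [hP]
    intro h
    rw [h, Subgroup.card_bot] at hcardK
    norm_num at hcardK
  refine ⟨P, ⟨fun g hg => ?_, fun T hT hcl => ?_⟩, hne⟩
  · have h16 : (g : qAut (sq7 F)) ^ 16 = 1 := by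
      refine pow_eq_one_of_normalizes h2 _ fun x => ?_
      rw [hP, Subgroup.mem_normalizer_iff] at hg
      constructor
      · intro hx
        exact (hg ⟨x, syl_le_commutator hx⟩).1 hx
      · intro hx
        have hx' : x ∈ commutator (qAut (sq7 F)) := by
          have h := mul_mem (mul_mem (inv_mem g.2) (syl_le_commutator hx)) g.2
          simpa [mul_assoc] using h
        exact (hg ⟨x, hx'⟩).2 hx
    have hz : IsPGroup 2 (Subgroup.zpowers g) := by
      rintro ⟨_, n, rfl⟩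
      refine ⟨4, Subtype.ext (Subtype.ext ?_)⟩
      simp only [Subgroup.coe_pow, Subgroup.coe_zpow, Subgroup.coe_one]
      rw [← zpow_natCast, ← zpow_mul, mul_comm, zpow_mul, zpow_natCast]
      norm_num [h16]
    have hsup := hz.to_sup_of_normal_right' P.2 (Subgroup.zpowers_le.2 hg)
    have hmem : g ∈ (P : Subgroup (commutator (qAut (sq7 F)))) :=
      (P.3 hsup le_sup_right).le (Subgroup.mem_sup_left (Subgroup.mem_zpowers g))
    exact ⟨g, hmem, fun x _ => rfl⟩
  · by_cases hT0 : T = ⊥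
    · exact Or.inl hT0
    right
    have h := closed_eq h2 (T.map (commutator (qAut (sq7 F))).subtype) ?_ ?_ ?_
    · refine le_antisymm hT fun x hx => ?_
      have hx' : (x : qAut (sq7 F)) ∈ T.map (commutator (qAut (sq7 F))).subtype := h.ge hx
      obtain ⟨y, hy, he⟩ := hx'
      exact Subtype.ext he ▸ hy
    · rintro _ ⟨x, hx, rfl⟩
      exact hT hx
    · rintro _ ⟨x, hx, rfl⟩ g hg hmem
      exact ⟨_, hcl x hx ⟨g, hg⟩ hmem, rfl⟩
    · intro hb
      exact hT0 ((Subgroup.map_eq_bot_iff_of_injective _ Subtype.coe_injective).1 hb)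

theorem main {q : ℕ} (hF : Fintype.card F = q) (hq : q % 8 = 3 ∨ q % 8 = 5) [DecidableEq F]
    (S : Sylow 2 (Cfsg.Omega F (Cfsg.quadFormOdd 3 F))) :
    (S : Subgroup (Cfsg.Omega F (Cfsg.quadFormOdd 3 F))) ≠ ⊥ ∧
      Rigid (S : Subgroup (Cfsg.Omega F (Cfsg.quadFormOdd 3 F))) := by
  classical
  have h2 := two_ne_zero_of_card hF hq
  haveI := finite_qAut (sq7 F)
  haveI : Fact (Nat.Prime 2) := ⟨Nat.prime_two⟩
  obtain ⟨P, hP, hne⟩ := exists_rigid_sylow hF hq
  obtain ⟨e⟩ := exists_iso (F := F) h2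
  let f : commutator (qAut (sq7 F)) ≃* Cfsg.Omega F (Cfsg.quadFormOdd 3 F) :=
    (e.subgroupMap _).trans (MulEquiv.subgroupCongr (map_commutator_equiv e))
  haveI : Finite (Cfsg.Omega F (Cfsg.quadFormOdd 3 F)) := Finite.of_equiv _ f.toEquiv
  let P' : Sylow 2 (Cfsg.Omega F (Cfsg.quadFormOdd 3 F)) :=
    P.mapSurjective (f := f.toMonoidHom) f.surjective
  have hP' : Rigid (P' : Subgroup (Cfsg.Omega F (Cfsg.quadFormOdd 3 F))) := hP.map f
  refine ⟨fun h => ?_, hP'.sylow S⟩
  have hc := Sylow.card_eq_multiplicity S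
  have hc' := Sylow.card_eq_multiplicity P
  rw [Nat.card_congr f.toEquiv, ← hc, h, Subgroup.card_bot] at hc'
  exact hne (Subgroup.card_eq_one.1 hc')

end CfsgLib.Fusion.OmegaSeven
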