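import Cfsg.Agent.Lib.Fusion.OmegaSeven.Comb

/-!
Finite checks on the signed permutations `2⁶ : D₈`.
-/

set_option autoImplicit false
set_option maxRecDepth 100000

open Equiv

namespace CfsgLib.Fusion.OmegaSeven

theorem card_evenSgns : Nat.card evenSgns = 64 := by
  let f : evenSgns → (Fin 6 → ℤˣ) := fun ε i => ε.1 i.castSucc
  have hlast : ∀ ε : Sgns, ε ∈ evenSgns → ε (Fin.last 6) = ∏ i : Fin 6, ε i.castSucc := by
    intro ε h
    rw [mem_evenSgns, Fin.prod_univ_castSucc] at h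
    exact ((Int.units_inv_eq_self _).symm.trans (inv_eq_of_mul_eq_one_left h))
  have hf : Function.Bijective f := by
    constructor
    · intro ε η h
      refine Subtype.ext (funext fun i => ?_)
      induction i using Fin.lastCases with
      | last => rw [hlast _ ε.2, hlast _ η.2]; exact Finset.prod_congr rfl fun i _ => congrFun h i
      | cast i => exact congrFun h i
    · intro η
      refine ⟨⟨Fin.snoc η (∏ i, η i), ?_⟩, funext fun i => ?_⟩
      swap
      · exact Fin.snoc_castSucc (α := fun _ => ℤˣ) _ η i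
      rw [mem_evenSgns, Fin.prod_univ_castSucc, Fin.snoc_last]
      simp only [Fin.snoc_castSucc]
      exact Int.units_mul_self _
  rw [Nat.card_eq_of_bijective f hf, Nat.card_eq_fintype_card, Fintype.card_fun, Fintype.card_fin,
    Fintype.card_units_int]
  norm_num

theorem dList_card : dList.toFinset.card = 8 := by decide +kernel

theorem evenSgns_decomp (ε : Sgns) (h : ∏ i, ε i = 1) : ε = ∏ i, fac ε i := by
  have hfac : ∀ i j : Fin 7, fac ε i j =
      if i = 6 then 1 else if j = i then ε i else if j = 6 then ε i else 1 := by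
    intro i j
    rcases Int.units_eq_one_or (ε i) with e | e
    · simp [fac, e]
    · rw [fac, if_pos e]
      by_cases hi : i = 6
      · subst hi
        simp [Int.units_mul_self]
      · simp only [Pi.mul_apply, dlt, Function.update_apply, Pi.one_apply, if_neg hi, e]
        by_cases hj : j = i
        · subst hj; simp [hi]
        · simp [hj]
  funext j
  rw [Finset.prod_apply]
  simp only [hfac]
  by_cases hj : j = 6
  · subst hj
    rw [← Finset.mul_prod_erase _ _ (Finset.mem_univ (6 : Fin 7))] at h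
    rw [← Finset.mul_prod_erase _ _ (Finset.mem_univ (6 : Fin 7)), if_pos rfl, one_mul,
      Finset.prod_congr rfl (g := ε) fun i hi => by
        obtain ⟨hi', -⟩ := Finset.mem_erase.1 hi
        simp [hi', Ne.symm hi']]
    exact (Int.units_inv_eq_self _).symm.trans (inv_eq_of_mul_eq_one_right h)
  · rw [Finset.prod_eq_single j (fun i _ hi => by simp [hj, Ne.symm hi]) (by simp)]
    simp [hj]

/-- An even vector constant on orbits is determined by a transversal. -/
theorem card_even_le {P : Sgns → Prop} [DecidablePred P] (R : Finset (Fin 7))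
    (h : ∀ j : Fin 7, j ≠ 6 → ∃ r ∈ R, ∀ ε, P ε → ε j = ε r) :
    (Finset.univ.filter fun ε : Sgns => ∏ i, ε i = 1 ∧ P ε).card ≤ 2 ^ R.card := by
  classical
  let f : Sgns → ((i : Fin 7) → i ∈ R → ℤˣ) := fun ε i _ => ε i
  refine le_trans (Finset.card_le_card_of_injOn f (t := R.pi fun _ => Finset.univ)
    (fun ε _ => Finset.mem_pi.2 fun i _ => Finset.mem_univ _) ?_) ?_
  · intro ε hε η hη he
    simp only [Finset.coe_filter, Finset.mem_univ, true_and, Set.mem_setOf_eq] at hε hη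
    have hne : ∀ j, j ≠ 6 → ε j = η j := fun j hj => by
      obtain ⟨r, hr, hP⟩ := h j hj
      rw [hP _ hε.2, hP _ hη.2]
      exact congrFun (congrFun he r) hr
    refine funext fun j => ?_
    by_cases hj : j = 6
    · subst hj
      have h1 := hε.1.trans hη.1.symm
      rw [← Finset.mul_prod_erase _ _ (Finset.mem_univ (6 : Fin 7)),
        ← Finset.mul_prod_erase _ η (Finset.mem_univ (6 : Fin 7)),
        Finset.prod_congr rfl fun i hi => hne i (Finset.mem_erase.1 hi).1] at h1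
      exact mul_right_cancel h1
    · exact hne j hj
  · rw [Finset.card_pi, Finset.prod_const, Finset.card_univ, Fintype.card_units_int]

/-- Orbit minima of one permutation away from `6`. -/
def rep₁ (p : Perm (Fin 7)) : Finset (Fin 7) :=
  Finset.univ.filter fun j => j ≠ 6 ∧ j ≤ p j ∧ j ≤ p (p j) ∧ j ≤ p (p (p j))

/-- Orbit minima of two commuting involutions away from `6`. -/
def rep₂ (p q : Perm (Fin 7)) : Finset (Fin 7) :=
  Finset.univ.filter fun j => j ≠ 6 ∧ j ≤ p j ∧ j ≤ q j ∧ j ≤ p (q j)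

theorem rep₁_spec : ∀ p ∈ dList, p ≠ 1 → (rep₁ p).card ≤ 4 ∧ ∀ j : Fin 7, j ≠ 6 →
    j ∈ rep₁ p ∨ p j ∈ rep₁ p ∨ p (p j) ∈ rep₁ p ∨ p (p (p j)) ∈ rep₁ p := by
  decide +kernel

theorem rep₂_spec : ∀ p ∈ dList, ∀ q ∈ dList, p ≠ 1 → q ≠ 1 → p ≠ q → p * p = 1 → q * q = 1 →
    p * q = q * p → (rep₂ p q).card ≤ 3 ∧ ∀ j : Fin 7, j ≠ 6 →
      j ∈ rep₂ p q ∨ p j ∈ rep₂ p q ∨ q j ∈ rep₂ p q ∨ p (q j) ∈ rep₂ p q := by
  decide +kernel

theorem fixed_one (p : Perm (Fin 7)) (hp : p ∈ dList) (hp1 : p ≠ 1) :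
    (Finset.univ.filter fun ε : Sgns => ∏ i, ε i = 1 ∧ ∀ i, ε (p i) = ε i).card ≤ 16 := by
  obtain ⟨hc, hcov⟩ := rep₁_spec p hp hp1
  refine le_trans (card_even_le (rep₁ p) fun j hj => ?_)
    (le_trans (Nat.pow_le_pow_right (by norm_num) hc) (by norm_num))
  rcases hcov j hj with h | h | h | h
  · exact ⟨j, h, fun _ _ => rfl⟩
  · exact ⟨_, h, fun ε hε => (hε j).symm⟩
  · exact ⟨_, h, fun ε hε => by rw [hε, hε]⟩
  · exact ⟨_, h, fun ε hε => by rw [hε, hε, hε]⟩

theorem fixed_two (p : Perm (Fin 7)) (hp : p ∈ dList) (q : Perm (Fin 7)) (hq : q ∈ dList)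
    (hp1 : p ≠ 1) (hq1 : q ≠ 1) (hne : p ≠ q) (hp2 : p * p = 1) (hq2 : q * q = 1)
    (hcm : p * q = q * p) :
    (Finset.univ.filter fun ε : Sgns =>
      ∏ i, ε i = 1 ∧ (∀ i, ε (p i) = ε i) ∧ ∀ i, ε (q i) = ε i).card ≤ 8 := by
  obtain ⟨hc, hcov⟩ := rep₂_spec p hp q hq hp1 hq1 hne hp2 hq2 hcm
  refine le_trans (card_even_le (rep₂ p q) fun j hj => ?_)
    (le_trans (Nat.pow_le_pow_right (by norm_num) hc) (by norm_num))
  rcases hcov j hj with h | h | h | h
  · exact ⟨j, h, fun _ _ => rfl⟩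
  · exact ⟨_, h, fun ε hε => (hε.1 j).symm⟩
  · exact ⟨_, h, fun ε hε => (hε.2 j).symm⟩
  · exact ⟨_, h, fun ε hε => by rw [hε.1, hε.2]⟩

theorem commuting_three : ∀ p ∈ dList, ∀ q ∈ dList, ∀ r ∈ dList, p ≠ 1 → q ≠ 1 → p ≠ q →
    p * p = 1 → q * q = 1 → r * r = 1 → p * q = q * p → p * r = r * p → q * r = r * q →
    r = 1 ∨ r = p ∨ r = q ∨ r = p * q := by
  decide +kernel

theorem fixed_point_pair : ∀ a' ∈ dList, ∀ b' ∈ dList, a' * b' ≠ b' * a' →
    ∀ x : Fin 7, a' x = x → b' x = x → x = 6 := by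
  decide +kernel

theorem rebuild : ∀ a' ∈ dList, ∀ b' ∈ dList, a' * a' = 1 → b' * b' = 1 → a' * b' ≠ b' * a' →
    ∀ x y : Fin 7,
    let f : Fin 7 → Fin 7 := ![x, a' x, a' (b' (a' x)), b' (a' x), y, b' y, 6]
    (∀ i, f (pA i) = a' (f i)) → (∀ i, f (pB i) = b' (f i)) →
      (∀ i j, f i = f j → i = j) → ∀ i, f (f (f (f (f (f (f (f i))))))) = i := by
  decide +kernel

theorem pow_eight_of_normalizes (σ : Perm (Fin 7)) (ha : σ * pA * σ⁻¹ ∈ dList)
    (hb : σ * pB * σ⁻¹ ∈ dList) : σ ^ 8 = 1 := by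
  set a' := σ * pA * σ⁻¹ with ha'
  set b' := σ * pB * σ⁻¹ with hb'
  have hne : a' * b' ≠ b' * a' := by
    intro h
    have hab : pA * pB ≠ pB * pA := by decide +kernel
    apply hab
    have h' : σ * (pA * pB) * σ⁻¹ = σ * (pB * pA) * σ⁻¹ := by
      calc σ * (pA * pB) * σ⁻¹ = a' * b' := by rw [ha', hb']; group
        _ = b' * a' := h
        _ = σ * (pB * pA) * σ⁻¹ := by rw [ha', hb']; group
    simpa using h'
  have hA : ∀ i, σ (pA i) = a' (σ i) := fun i => by simp [ha', Perm.mul_apply]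
  have hB : ∀ i, σ (pB i) = b' (σ i) := fun i => by simp [hb', Perm.mul_apply]
  have h6 : σ 6 = 6 := fixed_point_pair a' ha b' hb hne _
    (by rw [← hA, show pA 6 = 6 by decide]) (by rw [← hB, show pB 6 = 6 by decide])
  have h1 : σ 1 = a' (σ 0) := by rw [← hA, show pA 0 = 1 by decide]
  have h3 : σ 3 = b' (a' (σ 0)) := by rw [← h1, ← hB, show pB 1 = 3 by decide]
  have h2 : σ 2 = a' (b' (a' (σ 0))) := by rw [← h3, ← hA, show pA 3 = 2 by decide]
  have h5 : σ 5 = b' (σ 4) := by rw [← hB, show pB 4 = 5 by decide]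
  have hf : (![σ 0, a' (σ 0), a' (b' (a' (σ 0))), b' (a' (σ 0)), σ 4, b' (σ 4), 6] :
      Fin 7 → Fin 7) = ⇑σ := by
    funext i
    fin_cases i <;> simp [h1, h2, h3, h5, h6]
  refine Equiv.ext fun i => ?_
  have hA2 : pA * pA = 1 := by decide +kernel
  have hB2 : pB * pB = 1 := by decide +kernel
  have ha2 : a' * a' = 1 := by
    rw [ha', show σ * pA * σ⁻¹ * (σ * pA * σ⁻¹) = σ * (pA * pA) * σ⁻¹ by group, hA2, mul_one,
      mul_inv_cancel]
  have hb2 : b' * b' = 1 := by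
    rw [hb', show σ * pB * σ⁻¹ * (σ * pB * σ⁻¹) = σ * (pB * pB) * σ⁻¹ by group, hB2, mul_one,
      mul_inv_cancel]
  have h := rebuild a' ha b' hb ha2 hb2 hne (σ 0) (σ 4)
  simp only [hf] at h
  simpa [pow_succ, Perm.mul_apply] using h hA hB (fun i j h => σ.injective h) i

end CfsgLib.Fusion.OmegaSeven
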