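import Cfsg.Agent.Lib.Fusion.OmegaSeven.Model
import Cfsg.Agent.Lib.Fusion.OmegaSeven.CombCount
import Cfsg.Agent.Lib.PGroup.Basic

/-!
The Sylow subgroup `2⁶ : D₈` of `Ω₇(q)` and its strongly closed subgroups.
-/

set_option autoImplicit false

open Equiv CfsgLib.Classical

namespace CfsgLib.Fusion.OmegaSeven

variable {F : Type*} [Field F]

/-- The group `2⁶ : D₈` of even signed permutations. -/
def syl (F : Type*) [Field F] : Subgroup (qAut (sq7 F)) where
  carrier := {g | ∃ ε π, ε ∈ evenSgns ∧ π ∈ dList ∧ g = sgn ε * prm π}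
  one_mem' := ⟨1, 1, one_mem _, by simp [dList], by simp⟩
  mul_mem' := by
    rintro _ _ ⟨ε, π, hε, hπ, rfl⟩ ⟨η, τ, hη, hτ, rfl⟩
    exact ⟨_, _, mul_mem hε (comp_perm_mem hη _), dList_mul _ hπ _ hτ, mul_pair ..⟩
  inv_mem' := by
    rintro _ ⟨ε, π, hε, hπ, rfl⟩
    refine ⟨ε⁻¹ ∘ ⇑π, π⁻¹, comp_perm_mem (inv_mem hε) _, dList_inv _ hπ, ?_⟩
    refine inv_eq_of_mul_eq_one_right ?_
    rw [mul_pair, mul_inv_cancel π, map_one, mul_one]
    have h1 : ε * ((ε⁻¹ ∘ ⇑π) ∘ ⇑π⁻¹) = 1 := by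
      funext i
      simp
    rw [h1, map_one]

theorem sgn_mem_syl {ε : Sgns} (h : ε ∈ evenSgns) : (sgn ε : qAut (sq7 F)) ∈ syl F :=
  ⟨ε, 1, h, by simp [dList], by simp⟩

theorem prm_mem_syl {π : Perm (Fin 7)} (h : π ∈ dList) : (prm π : qAut (sq7 F)) ∈ syl F :=
  ⟨1, π, one_mem _, h, by simp⟩

theorem sgn_mem_commutator {ε : Sgns} (h : ε ∈ evenSgns) :
    (sgn ε : qAut (sq7 F)) ∈ commutator (qAut (sq7 F)) := by
  rw [evenSgns_decomp ε h]
  have : ∀ s : Finset (Fin 7),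
      (sgn (∏ i ∈ s, fac ε i) : qAut (sq7 F)) ∈ commutator (qAut (sq7 F)) := by
    intro s
    induction s using Finset.induction_on with
    | empty => rw [Finset.prod_empty, map_one]; exact one_mem _
    | insert i s hi ih =>
      rw [Finset.prod_insert hi, map_mul]
      refine mul_mem ?_ ih
      unfold fac
      split_ifs
      · exact sgn_pr_mem i 6
      · rw [map_one]; exact one_mem _
  exact this _

theorem syl_le_commutator : syl F ≤ commutator (qAut (sq7 F)) := by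
  rintro _ ⟨ε, π, hε, hπ, rfl⟩
  exact mul_mem (sgn_mem_commutator hε) (prm_mem_commutator (dList_mem_commutator π hπ))

theorem card_syl (h2 : (2 : F) ≠ 0) : Nat.card (syl F) = 2 ^ 9 := by
  let f : evenSgns × {π // π ∈ dList.toFinset} → syl F := fun x =>
    ⟨sgn x.1.1 * prm x.2.1, x.1.1, x.2.1, x.1.2, List.mem_toFinset.1 x.2.2, rfl⟩
  have hf : Function.Bijective f := by
    constructor
    · intro x y h
      obtain ⟨h1, h3⟩ := pair_inj h2 (congrArg Subtype.val h)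
      exact Prod.ext (Subtype.ext h1) (Subtype.ext h3)
    · rintro ⟨_, ε, π, hε, hπ, rfl⟩
      exact ⟨⟨⟨ε, hε⟩, ⟨π, List.mem_toFinset.2 hπ⟩⟩, rfl⟩
  rw [← Nat.card_eq_of_bijective f hf, Nat.card_prod, card_evenSgns,
    Nat.card_eq_fintype_card, Fintype.card_coe, dList_card]
  norm_num

/-- The reflection in `(1,1,1,1,0,0,0)/2` times the reflection in the fifth coordinate conjugates
`diag(-1,-1,1,1,1,1,1)` to a monomial element outside the diagonal group. -/
theorem exists_fusion (h2 : (2 : F) ≠ 0) : ∃ g ∈ commutator (qAut (sq7 F)),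
    g * sgn (pr 0 1) * g⁻¹ = (sgn (pr 2 3) * prm pA : qAut (sq7 F)) := by
  set v : Fin 7 → F := ![1 / 2, 1 / 2, 1 / 2, 1 / 2, 0, 0, 0] with hv
  set w : Fin 7 → F := ![0, 0, 0, 0, 1, 0, 0] with hw
  have hQv : sq7 F v = 1 := by
    rw [sq7_apply, Fin.sum_univ_seven]
    simp [hv]
    field_simp
    ring
  have hQw : sq7 F w = 1 := by
    rw [sq7_apply, Fin.sum_univ_seven]
    simp [hw]
  have hv0 : sq7 F v ≠ 0 := by simp [hQv]
  have hw0 : sq7 F w ≠ 0 := by simp [hQw]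
  refine ⟨qRefl _ hv0 * qRefl _ hw0,
    SylowTwo.refl_pair_mem _ h2 hv0 hw0 (hQv.trans hQw.symm), ?_⟩
  rw [mul_inv_eq_iff_eq_mul]
  refine qAut_ext fun x => ?_
  funext i
  have e0 : pr 0 1 = ![-1, -1, 1, 1, 1, 1, 1] := by decide +kernel
  have e1 : pr 2 3 = ![1, 1, -1, -1, 1, 1, 1] := by decide +kernel
  have ea : pA⁻¹ = pA := by decide +kernel
  simp only [qAut_mul_apply, qRefl_apply, QuadraticMap.polar, hQv, hQw, inv_one, one_mul, sq7_apply,
    Fin.sum_univ_seven, Pi.add_apply, Pi.sub_apply, Pi.smul_apply, smul_eq_mul, sgn_apply,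
    prm_apply, e0, e1, ea]
  fin_cases i <;> simp [hv, hw, pA, Equiv.swap_apply_def] <;> field_simp <;> ring

/-- Strongly closed subgroups of `2⁶ : D₈`. -/
theorem closed_eq [Finite F] (h2 : (2 : F) ≠ 0) (T : Subgroup (qAut (sq7 F))) (hT : T ≤ syl F)
    (hcl : ∀ a ∈ T, ∀ g ∈ commutator (qAut (sq7 F)), g * a * g⁻¹ ∈ syl F → g * a * g⁻¹ ∈ T)
    (hne : T ≠ ⊥) : T = syl F := by
  classical
  haveI : Fact (Nat.Prime 2) := ⟨Nat.prime_two⟩
  haveI := finite_qAut (sq7 F)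
  -- a central element
  have hp : IsPGroup 2 (syl F) := IsPGroup.of_card (card_syl h2)
  have hn : (T.subgroupOf (syl F)).Normal :=
    ⟨fun a ha g => hcl a ha g (syl_le_commutator g.2) (g * a * g⁻¹).2⟩
  have hne' : T.subgroupOf (syl F) ≠ ⊥ := by
    rw [Ne, Subgroup.subgroupOf_eq_bot, disjoint_iff, inf_eq_left.2 hT]
    exact hne
  haveI := hn
  obtain ⟨z, hz, hz1⟩ := (Subgroup.bot_or_exists_ne_one _).resolve_left 
    (CfsgLib.PGroup.inf_center_ne_bot hp (T.subgroupOf (syl F)) hne')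
  obtain ⟨hzT, hzc⟩ := hz
  obtain ⟨ε₀, π₀, hε₀, hπ₀, hz_eq⟩ := z.2
  have hπ₀1 : π₀ = 1 := by
    refine eq_one_of_fix fun ε hε => ?_
    have h := congrArg Subtype.val (Subgroup.mem_center_iff.1 hzc ⟨sgn ε, sgn_mem_syl hε⟩)
    simp only [Subgroup.coe_mul, hz_eq] at h
    have e1 : (sgn ε * (sgn ε₀ * prm π₀) : qAut (sq7 F)) = sgn (ε * ε₀) * prm π₀ := by
      rw [map_mul, mul_assoc]
    have e2 : (sgn ε₀ * prm π₀ * sgn ε : qAut (sq7 F)) = sgn (ε₀ * (ε ∘ ⇑π₀⁻¹)) * prm π₀ := by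
      rw [map_mul, mul_assoc, prm_mul_sgn, ← mul_assoc]
    rw [e1, e2] at h
    have h' := (pair_inj h2 h).1
    rw [mul_comm ε ε₀] at h'
    have h'' := mul_left_cancel h'
    funext i
    have := congrFun h'' (π₀ i)
    simpa using this
  rw [hπ₀1, map_one, mul_one] at hz_eq
  have hε₀1 : ε₀ ≠ 1 := fun h => hz1 (Subtype.ext (by rw [hz_eq, h, map_one]; rfl))
  -- conjugates of diagonal elements
  have hconj : ∀ ε, (sgn ε : qAut (sq7 F)) ∈ T → ε ∈ evenSgns → ∀ a b c : Fin 7,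
      (sgn (ε ∘ ⇑(cyc a b c)) : qAut (sq7 F)) ∈ T := by
    intro ε hε hev a b c
    have h := hcl _ hε (prm (cyc a b c)⁻¹)
      (prm_mem_commutator (inv_mem (cyc_mem_commutator a b c)))
    rw [prm_conj_sgn, inv_inv] at h
    exact h (sgn_mem_syl (comp_perm_mem hev _))
  obtain ⟨i, j, k, a, b, -, -, -, hab, heq⟩ := exists_sign_change hε₀ hε₀1
  have hzT' : (sgn ε₀ : qAut (sq7 F)) ∈ T := hz_eq ▸ hzT
  have hstart : (sgn (pr a b) : qAut (sq7 F)) ∈ T := by
    rw [← heq, map_mul]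
    exact mul_mem hzT' (hconj _ hzT' hε₀ _ _ _)
  have hstep : ∀ a b c : Fin 7, a ≠ b → a ≠ c → (sgn (pr a b) : qAut (sq7 F)) ∈ T →
      (sgn (pr a c) : qAut (sq7 F)) ∈ T := by
    intro a b c hab hac h
    by_cases hbc : b = c
    · exact hbc ▸ h
    obtain ⟨d, hda, hdb, hdc⟩ := exists_fourth a b c
    rw [← pr_comp_cyc hab hac hda.symm hbc hdb.symm hdc.symm]
    exact hconj _ h (pr_mem a b) _ _ _
  have hsymm : ∀ a b : Fin 7, pr a b = pr b a := fun a b => mul_comm _ _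
  have hall : ∀ p q : Fin 7, (sgn (pr p q) : qAut (sq7 F)) ∈ T := by
    intro p q
    by_cases hpq : p = q
    · subst hpq
      have : pr p p = 1 := funext fun x => Int.units_mul_self _
      rw [this, map_one]
      exact one_mem T
    by_cases hap : a = p
    · exact hstep p b q (hap ▸ hab) hpq (hap ▸ hstart)
    have h1 := hstep a b p hab hap hstart
    rw [hsymm] at h1
    exact hstep p a q (Ne.symm hap) hpq h1
  have hA : ∀ ε ∈ evenSgns, (sgn ε : qAut (sq7 F)) ∈ T := by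
    intro ε hε
    rw [evenSgns_decomp ε hε]
    have : ∀ s : Finset (Fin 7), (sgn (∏ i ∈ s, fac ε i) : qAut (sq7 F)) ∈ T := by
      intro s
      induction s using Finset.induction_on with
      | empty => rw [Finset.prod_empty, map_one]; exact one_mem T
      | insert i s hi ih =>
        rw [Finset.prod_insert hi, map_mul]
        refine mul_mem ?_ ih
        unfold fac
        split_ifs
        · exact hall i 6
        · rw [map_one]; exact one_mem T
    exact this _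
  obtain ⟨g, hg, hgeq⟩ := exists_fusion h2
  have haT : (prm pA : qAut (sq7 F)) ∈ T := by
    have h := hcl _ (hA _ (pr_mem 0 1)) g hg (by
      rw [hgeq]; exact mul_mem (sgn_mem_syl (pr_mem 2 3)) (prm_mem_syl (by simp [dList])))
    rw [hgeq] at h
    exact (mul_mem_cancel_left (hA _ (pr_mem 2 3))).1 h
  have hbT : (prm pB : qAut (sq7 F)) ∈ T := by
    have h := hcl _ haT (prm pR) (prm_mem_commutator pR_mem)
    rw [← map_inv, ← map_mul, ← map_mul, pR_conj] at h
    exact h (prm_mem_syl (by simp [dList]))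
  refine le_antisymm hT ?_
  rintro _ ⟨ε, π, hε, hπ, rfl⟩
  exact mul_mem (hA ε hε) (dList_gen (K := T.comap prm) haT hbT π hπ)

end CfsgLib.Fusion.OmegaSeven
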