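import Mathlib

/-!
Combinatorics of the signed permutations `2⁶ : D₈` on seven letters.
-/

set_option autoImplicit false
set_option maxRecDepth 100000

open Equiv

namespace CfsgLib.Fusion.OmegaSeven

/-- Sign vectors. -/
abbrev Sgns := Fin 7 → ℤˣ

/-- The permutation `(01)(23)`. -/
def pA : Perm (Fin 7) := swap 0 1 * swap 2 3

/-- The permutation `(13)(45)`. -/
def pB : Perm (Fin 7) := swap 1 3 * swap 4 5

/-- The dihedral group generated by `pA` and `pB`, as a list. -/
def dList : List (Perm (Fin 7)) :=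
  [1, pA, pB, pA * pB, pB * pA, pA * pB * pA, pB * pA * pB, pA * pB * pA * pB]

theorem dList_mul : ∀ x ∈ dList, ∀ y ∈ dList, x * y ∈ dList := by decide +kernel

theorem dList_inv : ∀ x ∈ dList, x⁻¹ ∈ dList := by decide +kernel

theorem dList_gen {K : Subgroup (Perm (Fin 7))} (ha : pA ∈ K) (hb : pB ∈ K) :
    ∀ x ∈ dList, x ∈ K := by
  intro x hx
  simp only [dList, List.mem_cons, List.not_mem_nil, or_false] at hx
  rcases hx with rfl | rfl | rfl | rfl | rfl | rfl | rfl | rfl
  · exact one_mem K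
  · exact ha
  · exact hb
  · exact mul_mem ha hb
  · exact mul_mem hb ha
  · exact mul_mem (mul_mem ha hb) ha
  · exact mul_mem (mul_mem hb ha) hb
  · exact mul_mem (mul_mem (mul_mem ha hb) ha) hb

/-- `δ i` is the vector with a single sign at `i`. -/
def dlt (i : Fin 7) : Sgns := Function.update 1 i (-1)

/-- The even sign vectors. -/
def evenSgns : Subgroup Sgns where
  carrier := {ε | ∏ i, ε i = 1}
  one_mem' := by simp
  mul_mem' := fun {a b} ha hb => by
    show ∏ i, (a * b) i = 1
    simp only [Pi.mul_apply, Finset.prod_mul_distrib]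
    rw [show ∏ i, a i = 1 from ha, show ∏ i, b i = 1 from hb, mul_one]
  inv_mem' := fun {a} ha => by
    show ∏ i, (a⁻¹) i = 1
    simp only [Pi.inv_apply, Finset.prod_inv_distrib]
    rw [show ∏ i, a i = 1 from ha, inv_one]

theorem mem_evenSgns {ε : Sgns} : ε ∈ evenSgns ↔ ∏ i, ε i = 1 := Iff.rfl

theorem comp_perm_mem {ε : Sgns} (h : ε ∈ evenSgns) (π : Perm (Fin 7)) : ε ∘ π ∈ evenSgns := by
  rw [mem_evenSgns] at h ⊢
  exact (Equiv.prod_comp π ε).trans h

/-- A single factor in the decomposition of an even vector. -/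
def fac (ε : Sgns) (i : Fin 7) : Sgns := if ε i = -1 then dlt i * dlt 6 else 1

/-- Only the identity of `dList` fixes every even vector. -/
theorem eq_one_of_fix {π : Perm (Fin 7)} (h : ∀ ε ∈ evenSgns, ε ∘ π = ε) : π = 1 := by
  refine Equiv.ext fun i => ?_
  by_contra hne
  have hne' : π i ≠ i := hne
  obtain ⟨k, hk1, hk2⟩ : ∃ k : Fin 7, k ≠ i ∧ k ≠ π i := by
    have : ∀ i j : Fin 7, ∃ k, k ≠ i ∧ k ≠ j := by decide +kernel
    exact this i (π i)
  have hev : dlt i * dlt k ∈ evenSgns := by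
    have : ∀ i k : Fin 7, k ≠ i → ∏ x, (dlt i * dlt k) x = 1 := by decide +kernel
    exact this i k hk1
  have := congrFun (h _ hev) i
  simp [dlt, Function.update, hne', hk1.symm, Ne.symm hk2] at this

/-- A commutator of two transpositions. -/
def cyc (i j k : Fin 7) : Perm (Fin 7) :=
  swap i j * swap i k * (swap i j)⁻¹ * (swap i k)⁻¹

theorem cyc_mem_commutator (i j k : Fin 7) : cyc i j k ∈ commutator (Perm (Fin 7)) := by
  rw [cyc, commutator_def]
  exact Subgroup.commutator_mem_commutator (Subgroup.mem_top _) (Subgroup.mem_top _)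

theorem cyc_apply : ∀ i j k x : Fin 7, i ≠ j → i ≠ k → j ≠ k →
    cyc i j k x = if x = i then j else if x = j then k else if x = k then i else x := by
  decide +kernel

theorem pA_eq : pA = cyc 0 1 2 * cyc 1 2 3 := by decide +kernel

/-- The permutation conjugating `pA` to `pB`. -/
def pR : Perm (Fin 7) := cyc 0 1 4 * cyc 0 5 2

theorem pR_conj : pR * pA * pR⁻¹ = pB := by decide +kernel

theorem pR_mem : pR ∈ commutator (Perm (Fin 7)) :=
  mul_mem (cyc_mem_commutator _ _ _) (cyc_mem_commutator _ _ _)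

theorem pA_mem : pA ∈ commutator (Perm (Fin 7)) :=
  pA_eq ▸ mul_mem (cyc_mem_commutator _ _ _) (cyc_mem_commutator _ _ _)

theorem pB_mem : pB ∈ commutator (Perm (Fin 7)) := by
  rw [← pR_conj]
  exact mul_mem (mul_mem pR_mem pA_mem) (inv_mem pR_mem)

theorem dList_mem_commutator : ∀ x ∈ dList, x ∈ commutator (Perm (Fin 7)) :=
  dList_gen pA_mem pB_mem

/-- Even vectors with exactly two signs. -/
def pr (i j : Fin 7) : Sgns := dlt i * dlt j

theorem pr_mem : ∀ i j : Fin 7, ∏ x, pr i j x = 1 := by decide +kernel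

theorem exists_fourth : ∀ a b c : Fin 7, ∃ d, d ≠ a ∧ d ≠ b ∧ d ≠ c := by decide +kernel

theorem pr_apply {i j : Fin 7} (h : i ≠ j) (x : Fin 7) :
    pr i j x = if x = i ∨ x = j then -1 else 1 := by
  simp only [pr, dlt, Pi.mul_apply, Function.update_apply, Pi.one_apply]
  by_cases h1 : x = i <;> by_cases h2 : x = j <;> simp_all

theorem pr_comp_cyc {a b c d : Fin 7} (hab : a ≠ b) (hac : a ≠ c) (had : a ≠ d) (hbc : b ≠ c)
    (hbd : b ≠ d) (hcd : c ≠ d) : pr a b ∘ ⇑(cyc b d c) = pr a c := by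
  funext x
  rw [Function.comp_apply, pr_apply hab, pr_apply hac, cyc_apply b d c x hbd hbc hcd.symm]
  by_cases h1 : x = b <;> by_cases h2 : x = d <;> by_cases h3 : x = c <;> simp_all [Ne.symm]

theorem exists_sign_change {ε : Sgns} (hev : ∏ i, ε i = 1) (hne : ε ≠ 1) :
    ∃ i j k a b : Fin 7, i ≠ j ∧ i ≠ k ∧ j ≠ k ∧ a ≠ b ∧ ε * (ε ∘ ⇑(cyc i j k)) = pr a b := by
  obtain ⟨i, hi⟩ : ∃ i, ε i = -1 := by
    by_contra h
    push Not at h
    exact hne (funext fun x => (Int.units_eq_one_or (ε x)).resolve_right (h x))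
  obtain ⟨j, hj⟩ : ∃ j, ε j = 1 := by
    by_contra h
    push Not at h
    rw [Finset.prod_congr rfl fun x _ => (Int.units_eq_one_or (ε x)).resolve_left (h x)] at hev
    simp at hev
    exact absurd hev (by decide)
  have hij : i ≠ j := fun h => by rw [h, hj] at hi; exact absurd hi (by decide)
  obtain ⟨k, hki, hkj, -⟩ := exists_fourth i j j
  rcases Int.units_eq_one_or (ε k) with hk | hk
  · refine ⟨i, j, k, i, k, hij, hki.symm, hkj.symm, hki.symm, funext fun x => ?_⟩
    rw [Pi.mul_apply, Function.comp_apply, pr_apply hki.symm, cyc_apply i j k x hij hki.symm hkj.symm]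
    rcases Int.units_eq_one_or (ε x) with hx | hx <;>
      by_cases h1 : x = i <;> by_cases h2 : x = j <;> by_cases h3 : x = k <;> simp_all
  · refine ⟨i, j, k, i, j, hij, hki.symm, hkj.symm, hij, funext fun x => ?_⟩
    rw [Pi.mul_apply, Function.comp_apply, pr_apply hij, cyc_apply i j k x hij hki.symm hkj.symm]
    rcases Int.units_eq_one_or (ε x) with hx | hx <;>
      by_cases h1 : x = i <;> by_cases h2 : x = j <;> by_cases h3 : x = k <;> simp_all

end CfsgLib.Fusion.OmegaSeven
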