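import Cfsg.Agent.Lib.Fusion.Invariant
import Cfsg.Agent.Lib.Fusion.LocalCrit

/-!
A simplicity criterion for the fusion system of a group: a Sylow subgroup whose normaliser acts by
inner automorphisms and which has no proper nontrivial strongly closed subgroup.
-/

set_option autoImplicit false

open Cfsg Cfsg.FusionSystem

namespace CfsgLib.Fusion.OmegaSeven

variable {G : Type*} [Group G]

/-- The normaliser of `K` acts on `K` by inner automorphisms and `K` has no proper nontrivial
strongly closed subgroup. -/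
def Rigid (K : Subgroup G) : Prop :=
  (∀ g : G, g ∈ Subgroup.normalizer (K : Set G) → ∃ s ∈ K, ∀ x ∈ K, g * x * g⁻¹ = s * x * s⁻¹) ∧
    ∀ T : Subgroup G, T ≤ K → (∀ a ∈ T, ∀ g : G, g * a * g⁻¹ ∈ K → g * a * g⁻¹ ∈ T) → T = ⊥ ∨ T = K

theorem Rigid.map {G' : Type*} [Group G'] {K : Subgroup G} (h : Rigid K) (e : G ≃* G') :
    Rigid (K.map e.toMonoidHom) := by
  have hmem : ∀ x : G', x ∈ K.map e.toMonoidHom ↔ e.symm x ∈ K := fun x => Subgroup.mem_map_equiv
  refine ⟨fun g hg => ?_, fun T hT hcl => ?_⟩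
  · have hg' : e.symm g ∈ Subgroup.normalizer (K : Set G) := by
      rw [Subgroup.mem_normalizer_iff] at hg ⊢
      intro x
      have := hg (e x)
      rw [hmem, hmem, map_mul, map_mul, map_inv, e.symm_apply_apply] at this
      exact this
    obtain ⟨s, hs, hsx⟩ := h.1 _ hg'
    refine ⟨e s, Subgroup.mem_map_of_mem _ hs, fun x hx => ?_⟩
    have := congrArg e (hsx _ ((hmem x).1 hx))
    simpa using this
  · have hT' : ∀ x, x ∈ T.comap e.toMonoidHom → x ∈ K := fun x hx => by
      have := (hmem _).1 (hT (Subgroup.mem_comap.1 hx))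
      simpa using this
    rcases h.2 (T.comap e.toMonoidHom) hT' (fun a ha g hg => by
      rw [Subgroup.mem_comap] at ha ⊢
      have := hcl (e a) ha (e g) (by
        rw [hmem]; simpa using hg)
      simpa using this) with h' | h'
    · left
      rw [Subgroup.eq_bot_iff_forall] at h' ⊢
      intro x hx
      have := h' (e.symm x) (by rw [Subgroup.mem_comap]; simpa using hx)
      simpa using congrArg e this
    · right
      rw [← h', Subgroup.map_comap_eq_self_of_surjective e.surjective]

variable [Finite G] {p : ℕ} [Fact p.Prime]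

theorem Rigid.autGroup_eq (S : Sylow p G) (h : Rigid (S : Subgroup G)) :
    (groupFusionSystem (S : Subgroup G)).autGroup (S : Subgroup G) = Cfsg.Inn (S : Subgroup G) := by
  refine le_antisymm ((Subgroup.closure_le _).2 fun α hα => ?_) (inn_le_autGroup le_rfl)
  obtain ⟨-, -, g, hg⟩ := hα
  have hg' : ∀ x : (S : Subgroup G), ((α x : (S : Subgroup G)) : G) = g * x * g⁻¹ := fun x => hg x
  have hn : g ∈ Subgroup.normalizer ((S : Subgroup G) : Set G) := by
    rw [Subgroup.mem_normalizer_iff]
    intro x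
    refine ⟨fun hx => hg' ⟨x, hx⟩ ▸ (α ⟨x, hx⟩).2, fun hx => ?_⟩
    obtain ⟨y, hy⟩ := α.surjective ⟨_, hx⟩
    have h1 := hg' y
    rw [hy] at h1
    simp only [mul_left_inj, mul_right_inj] at h1
    exact h1 ▸ y.2
  obtain ⟨s, hs, hsx⟩ := h.1 g hn
  refine ⟨⟨s, hs⟩, MulEquiv.ext fun x => Subtype.ext ?_⟩
  rw [hg' x, hsx x x.2]
  rfl

theorem Rigid.stronglyClosed (S : Sylow p G) (h : Rigid (S : Subgroup G)) (T : Subgroup G)
    (hT : (groupFusionSystem (S : Subgroup G)).StronglyClosed T) : T = ⊥ ∨ T = (S : Subgroup G) :=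
  h.2 T hT.1 fun _ ha g hg => conj_mem_of_stronglyClosed hT ha g hg

theorem Rigid.isSimple (S : Sylow p G) (hS : (S : Subgroup G) ≠ ⊥) (h : Rigid (S : Subgroup G)) :
    (groupFusionSystem (S : Subgroup G)).IsSimple p :=
  isSimple_of_criterion S.2 (isSaturated_groupFusion S) hS (h.stronglyClosed S)
    fun E _ _ => (h.autGroup_eq S).le.trans (inn_le_autGroup le_rfl)

/-- It is enough that some Sylow subgroup is rigid. -/
theorem Rigid.sylow {P : Sylow p G} (h : Rigid (P : Subgroup G)) (S : Sylow p G) :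
    Rigid (S : Subgroup G) := by
  obtain ⟨g, rfl⟩ := MulAction.exists_smul_eq G P S
  exact h.map (MulAut.conj g)

end CfsgLib.Fusion.OmegaSeven
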