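import Cfsg.Agent.Lib.Fusion.OmegaSeven.Comb
import Cfsg.Agent.Lib.Classical.SylowTwo.Model

/-!
Signed permutations inside the orthogonal group of `x₀² + ⋯ + x₆²`.
-/

set_option autoImplicit false

open Equiv CfsgLib.Classical

namespace CfsgLib.Fusion.OmegaSeven

variable {F : Type*} [Field F]

/-- `x₀² + ⋯ + x₆²`. -/
noncomputable def sq7 (F : Type*) [Field F] : QuadraticForm F (Fin 7 → F) :=
  QuadraticMap.weightedSumSquares F (fun _ : Fin 7 => (1 : F))

theorem sq7_apply (x : Fin 7 → F) : sq7 F x = ∑ i, x i * x i := by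
  simp [sq7, QuadraticMap.weightedSumSquares_apply]

theorem unit_sq_cast (u : ℤˣ) : ((u : ℤ) : F) * ((u : ℤ) : F) = 1 := by
  rw [← Int.cast_mul, ← Units.val_mul, Int.units_mul_self, Units.val_one, Int.cast_one]

/-- The diagonal isometries. -/
noncomputable def sgn : Sgns →* qAut (sq7 F) where
  toFun ε := ⟨
    { toFun := fun x i => ((ε i : ℤ) : F) * x i
      map_add' := fun x y => funext fun i => by simp [mul_add]
      map_smul' := fun c x => funext fun i => by simp [mul_left_comm]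
      invFun := fun x i => ((ε i : ℤ) : F) * x i
      left_inv := fun x => funext fun i => by simp [← mul_assoc, unit_sq_cast]
      right_inv := fun x => funext fun i => by simp [← mul_assoc, unit_sq_cast] },
    fun x => by
      simp only [sq7_apply]
      refine Finset.sum_congr rfl fun i _ => ?_
      show ((ε i : ℤ) : F) * x i * (((ε i : ℤ) : F) * x i) = x i * x i
      rw [mul_mul_mul_comm, unit_sq_cast, one_mul]⟩
  map_one' := qAut_ext fun x => funext fun i => by
    show (((1 : ℤˣ) : ℤ) : F) * x i = x i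
    simp
  map_mul' ε η := qAut_ext fun x => funext fun i => by
    show (((ε i * η i : ℤˣ) : ℤ) : F) * x i = ((ε i : ℤ) : F) * (((η i : ℤ) : F) * x i)
    simp [mul_assoc]

/-- The permutation isometries. -/
noncomputable def prm : Perm (Fin 7) →* qAut (sq7 F) where
  toFun π := ⟨LinearEquiv.funCongrLeft F F π⁻¹, fun x => by
    simp only [sq7_apply]
    exact Equiv.sum_comp π⁻¹ (fun i => x i * x i)⟩
  map_one' := qAut_ext fun x => rfl
  map_mul' π τ := qAut_ext fun x => funext fun i => rfl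

theorem sgn_apply (ε : Sgns) (x : Fin 7 → F) (i : Fin 7) :
    (sgn ε : qAut (sq7 F)).1 x i = ((ε i : ℤ) : F) * x i := rfl

theorem prm_apply (π : Perm (Fin 7)) (x : Fin 7 → F) (i : Fin 7) :
    (prm π : qAut (sq7 F)).1 x i = x (π⁻¹ i) := rfl

theorem prm_mul_sgn (π : Perm (Fin 7)) (ε : Sgns) :
    (prm π * sgn ε : qAut (sq7 F)) = sgn (ε ∘ ⇑π⁻¹) * prm π :=
  qAut_ext fun _ => funext fun _ => rfl

theorem prm_conj_sgn (π : Perm (Fin 7)) (ε : Sgns) :
    (prm π * sgn ε * (prm π)⁻¹ : qAut (sq7 F)) = sgn (ε ∘ ⇑π⁻¹) := by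
  rw [prm_mul_sgn, mul_inv_cancel_right]

theorem mul_pair (ε η : Sgns) (π τ : Perm (Fin 7)) :
    (sgn ε * prm π * (sgn η * prm τ) : qAut (sq7 F)) = sgn (ε * (η ∘ ⇑π⁻¹)) * prm (π * τ) := by
  rw [map_mul, map_mul, mul_assoc, ← mul_assoc (prm π), prm_mul_sgn]
  simp only [mul_assoc]

theorem pow_pair (ε : Sgns) (π : Perm (Fin 7)) :
    ∀ n : ℕ, ∃ η : Sgns, (sgn ε * prm π : qAut (sq7 F)) ^ n = sgn η * prm (π ^ n)
  | 0 => ⟨1, by simp⟩
  | n + 1 => by
    obtain ⟨η, hη⟩ := pow_pair ε π n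
    exact ⟨_, by rw [pow_succ, hη, mul_pair, ← pow_succ]⟩

theorem pair_single (ε : Sgns) (π : Perm (Fin 7)) (i : Fin 7) :
    (sgn ε * prm π : qAut (sq7 F)).1 (Pi.single i 1) = Pi.single (π i) ((ε (π i) : ℤ) : F) := by
  funext j
  rw [qAut_mul_apply, sgn_apply, prm_apply]
  by_cases h : j = π i
  · subst h
    simp
  · have h' : π⁻¹ j ≠ i := fun h' => h (by rw [← h']; simp)
    have h'' : π.symm j ≠ i := h'
    simp [h, h'']

theorem unit_cast_ne_zero (u : ℤˣ) : ((u : ℤ) : F) ≠ 0 := fun h => by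
  simpa [h] using unit_sq_cast (F := F) u

theorem unit_cast_inj (h2 : (2 : F) ≠ 0) {u v : ℤˣ} (h : ((u : ℤ) : F) = ((v : ℤ) : F)) :
    u = v := by
  have h1 : (1 : F) ≠ -1 := fun e => h2 (by linear_combination e)
  rcases Int.units_eq_one_or u with rfl | rfl <;> rcases Int.units_eq_one_or v with rfl | rfl <;>
    simp_all [eq_comm]

theorem pair_inj (h2 : (2 : F) ≠ 0) {ε η : Sgns} {π τ : Perm (Fin 7)}
    (h : (sgn ε * prm π : qAut (sq7 F)) = sgn η * prm τ) : ε = η ∧ π = τ := by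
  have hπ : ∀ i, π i = τ i := fun i => by
    have h1 := congrArg (fun g : qAut (sq7 F) => g.1 (Pi.single i 1) (π i)) h
    simp only [pair_single, Pi.single_eq_same] at h1
    by_contra hne
    rw [Pi.single_eq_of_ne hne] at h1
    exact unit_cast_ne_zero _ h1
  refine ⟨funext fun j => ?_, Equiv.ext hπ⟩
  have h1 := congrArg (fun g : qAut (sq7 F) => g.1 (Pi.single (π.symm j) 1) j) h
  simp only [pair_single, ← hπ, Equiv.apply_symm_apply, Pi.single_eq_same] at h1
  exact unit_cast_inj h2 h1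

theorem prm_mem_commutator {π : Perm (Fin 7)} (h : π ∈ commutator (Perm (Fin 7))) :
    (prm π : qAut (sq7 F)) ∈ commutator (qAut (sq7 F)) := by
  have h' := Subgroup.mem_map_of_mem (prm : Perm (Fin 7) →* qAut (sq7 F)) h
  rw [commutator_def, Subgroup.map_commutator] at h'
  rw [commutator_def]
  exact Subgroup.commutator_mono le_top le_top h'

theorem sgn_pr_mem (i j : Fin 7) :
    (sgn (dlt i * dlt j) : qAut (sq7 F)) ∈ commutator (qAut (sq7 F)) := by
  have hd : dlt i ∘ ⇑(swap i j)⁻¹ = dlt j := by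
    have : ∀ i j : Fin 7, dlt i ∘ ⇑(swap i j)⁻¹ = dlt j := by decide +kernel
    exact this i j
  have hi : (dlt i)⁻¹ = dlt i := funext fun x => Int.units_inv_eq_self _
  have key : (sgn (dlt i * dlt j) : qAut (sq7 F)) =
      sgn (dlt i) * prm (swap i j) * (sgn (dlt i))⁻¹ * (prm (swap i j))⁻¹ := by
    rw [← map_inv (sgn : Sgns →* qAut (sq7 F)), hi, mul_assoc, mul_assoc, ← mul_assoc (prm (swap i j)), prm_conj_sgn, hd,
      map_mul]
  rw [key, commutator_def]
  exact Subgroup.commutator_mem_commutator (Subgroup.mem_top _) (Subgroup.mem_top _)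

end CfsgLib.Fusion.OmegaSeven
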